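import Groth.Agent.ProjPt.Poly
import Groth.Agent.SBAut.Vectors
import Mathlib.AlgebraicGeometry.ProjectiveSpectrum.Basic

/-!
# The charts of projective space and their points with values in an algebra over the base
-/

universe u

open AlgebraicGeometry CategoryTheory HomogeneousLocalization MvPolynomial

noncomputable section

set_option linter.style.haveILetI false

namespace Groth.Agent.SBSplit

open ProjPt

variable {K : Type u} [CommRing K] {m : ℕ}

/-- The coordinate ring of the chart. -/
abbrev Ch (i : Fin (m + 1)) : Type u := Away (CohB1.polyGrading m K) (X i)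

/-- The embedding of the chart. -/
abbrev ι (i : Fin (m + 1)) : Spec (CommRingCat.of (Ch (K := K) i)) ⟶ Proj (CohB1.polyGrading m K) :=
  Proj.awayι (CohB1.polyGrading m K) (X i) (X_mem i) one_pos

/-- The structure morphism. -/
abbrev σP : Proj (CohB1.polyGrading m K) ⟶ Spec (CommRingCat.of K) := CohB1.ProjSpace.toSpec m K

theorem ι_toSpec (i : Fin (m + 1)) :
    ι i ≫ σP = Spec.map (CommRingCat.ofHom (cst (R := K) i)) := by
  show Proj.awayι _ _ _ _ ≫ Proj.toSpecZero _ ≫ _ = _
  rw [← Category.assoc, Proj.awayι_toSpecZero, ← Spec.map_comp]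
  rfl

theorem exists_ι_apply (z : ↥(Proj (CohB1.polyGrading m K))) :
    ∃ (i : Fin (m + 1)) (w : Spec (CommRingCat.of (Ch (K := K) i))), ι i w = z := by
  have htop : (⊤ : (Proj (CohB1.polyGrading m K)).Opens) = ⨆ i : Fin (m + 1), Proj.basicOpen (CohB1.polyGrading m K) (X i) := by
    refine (Proj.iSup_basicOpen_eq_top' (CohB1.polyGrading m K) (fun i => X i) (fun i => ⟨1, X_mem i⟩) ?_).symm
    rw [eq_top_iff]
    intro f _
    induction f using MvPolynomial.induction_on with
    | C a => exact Subalgebra.algebraMap_mem _ (⟨C a, (mem_homogeneousSubmodule _ _).2 (isHomogeneous_C _ a)⟩ : CohB1.polyGrading m K 0)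
    | add p q hp hq => exact add_mem (hp trivial) (hq trivial)
    | mul_X p j hp => exact mul_mem (hp trivial) (Algebra.subset_adjoin ⟨j, rfl⟩)
  obtain ⟨i, hi⟩ := TopologicalSpace.Opens.mem_iSup.1 ((le_of_eq htop : _ ≤ _) (show z ∈ ⊤ from trivial))
  rw [← Proj.opensRange_awayι (CohB1.polyGrading m K) (X i) (X_mem i) one_pos] at hi
  exact ⟨i, hi⟩

variable {R : Type u} [CommRing R] (c : K →+* R)

/-- The map out of a chart with prescribed constants and coordinates. -/
def evC (v : Fin (m + 1) → R) (i : Fin (m + 1)) (h : v i = 1) : Ch (K := K) i →+* R :=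
  coordHom (CohB1.polyGrading m K) (eval₂Hom c v) (t := X i) (by simp [h])

theorem evC_crd (v : Fin (m + 1) → R) (i : Fin (m + 1)) (h : v i = 1) (k : Fin (m + 1)) :
    evC c v i h (crd i k) = v k := by
  rw [evC, coordHom_crd _ i _ (by simp [h])]
  simp

theorem evC_cst (v : Fin (m + 1) → R) (i : Fin (m + 1)) (h : v i = 1) :
    (evC c v i h).comp (cst i) = c := by
  ext r
  rw [RingHom.comp_apply, evC, coordHom_cst]
  simp

theorem eq_evC {i : Fin (m + 1)} (a : Ch (K := K) i →+* R) (ha : a.comp (cst i) = c) :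
    a = evC c (fun k => a (crd i k)) i (by rw [crd_self, map_one]) :=
  away_ext i _ _ (by rw [evC_cst, ha]) fun k => by rw [evC_crd]

/-- Proportional coordinates give the same point. -/
theorem evC_ι_eq {v v' : Fin (m + 1) → R} {i j : Fin (m + 1)} (h : v i = 1) (h' : v' j = 1)
    (hr : SBAut.Rel v v') :
    Spec.map (CommRingCat.ofHom (evC c v i h)) ≫ ι i = Spec.map (CommRingCat.ofHom (evC c v' j h')) ≫ ι j := by
  have hk : ∀ k, v' k * v j = v k := fun k => by
    have := hr k j
    rw [h', mul_one] at this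
    rw [this, mul_comm]
  have hu : IsUnit (v j) := IsUnit.of_mul_eq_one_right (v' i) (by rw [hk, h])
  let f := eval₂Hom c v
  have hui : IsUnit (f (X i)) := by simp [f, h]
  have huj : IsUnit (f (X j)) := by simp [f, hu]
  have hux : IsUnit (f (X i * X j)) := by rw [map_mul]; exact hui.mul huj
  have e1 : evC c v i h = (coordHom (CohB1.polyGrading m K) f hux).comp
      (awayMap (CohB1.polyGrading m K) (X_mem j) rfl) :=
    (coordHom_awayMap (CohB1.polyGrading m K) f (X_mem i) (X_mem j) rfl hui hux).symm
  have e2' : evC c v' j h' = coordHom (CohB1.polyGrading m K) f huj := by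
    refine away_ext j _ _ ?_ fun k => ?_
    · rw [evC_cst]
      ext r
      rw [RingHom.comp_apply, coordHom_cst]
      simp [f]
    · rw [evC_crd, eq_comm, crd, coordHom_mk_eq_iff, pow_one]
      simp [f, hk]
  have e2 : evC c v' j h' = (coordHom (CohB1.polyGrading m K) f hux).comp
      (awayMap (CohB1.polyGrading m K) (X_mem i) (mul_comm _ _)) :=
    e2'.trans (coordHom_awayMap (CohB1.polyGrading m K) f (X_mem j) (X_mem i) (mul_comm _ _) huj hux).symm
  rw [e1, e2]
  simp only [CommRingCat.ofHom_comp, Spec.map_comp, Category.assoc, ι]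
  rw [Proj.SpecMap_awayMap_awayι, Proj.SpecMap_awayMap_awayι]

/-- Equal points have proportional coordinates. -/
theorem rel_of_ι_eq {i j : Fin (m + 1)} (a : Ch (K := K) i →+* R) (b : Ch (K := K) j →+* R)
    (h : Spec.map (CommRingCat.ofHom a) ≫ ι i = Spec.map (CommRingCat.ofHom b) ≫ ι j) :
    SBAut.Rel (fun k => a (crd i k)) (fun k => b (crd j k)) ∧ a.comp (cst i) = b.comp (cst j) := by
  let r := Limits.pullback.lift _ _ h ≫
    (Proj.pullbackAwayιIso (CohB1.polyGrading m K) (X_mem i) one_pos (X_mem j) one_pos rfl).hom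
  obtain ⟨w, hw⟩ := Spec.map_surjective r
  have ha : a = w.hom.comp (awayMap (CohB1.polyGrading m K) (X_mem j) rfl) := by
    have : Spec.map (CommRingCat.ofHom a) = Spec.map (CommRingCat.ofHom (awayMap (CohB1.polyGrading m K) (X_mem j) rfl) ≫ w) := by
      rw [Spec.map_comp, hw]
      simp [r]
      exact (Limits.pullback.lift_fst _ _ h).symm
    exact congrArg CommRingCat.Hom.hom (Spec.map_injective this)
  have hb : b = w.hom.comp (awayMap (CohB1.polyGrading m K) (X_mem i) (mul_comm _ _)) := by
    have : Spec.map (CommRingCat.ofHom b) = Spec.map (CommRingCat.ofHom (awayMap (CohB1.polyGrading m K) (X_mem i) (mul_comm _ _)) ≫ w) := by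
      rw [Spec.map_comp, hw]
      simp [r]
      exact (Limits.pullback.lift_snd _ _ h).symm
    exact congrArg CommRingCat.Hom.hom (Spec.map_injective this)
  refine ⟨fun p q => ?_, ?_⟩
  · rw [ha, hb]
    simp only [RingHom.comp_apply, ← map_mul]
    congr 1
    apply val_injective
    simp only [crd, awayMap_mk, HomogeneousLocalization.val_mul, Away.val_mk, Localization.mk_mul]
    rw [Localization.mk_eq_mk_iff, Localization.r_iff_exists]
    exact ⟨1, by simp; ring⟩
  · rw [ha, hb, RingHom.comp_assoc, RingHom.comp_assoc]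
    congr 1
    ext z
    simp [cst, awayMap_fromZeroRingHom]

end Groth.Agent.SBSplit
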