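import Groth.Agent.SBSplit.Vec
import Groth.Agent.SBSplit.Chart
import Groth.Agent.SBAut.Yoneda
import Groth.Agent.SBAut.Natural

/-!
# A Severi-Brauer variety of a split algebra is a projective space
-/

universe u

open AlgebraicGeometry CategoryTheory Limits MvPolynomial
open scoped TensorProduct

noncomputable section

set_option linter.style.haveILetI false

namespace Groth.Agent.SBSplit

open SBAut (sbMap sbSet_ext baseAlg baseAlg_tower)
open ProjPt (crd cst crd_self X_mem)

variable {k : Type u} [Field k] {A : Type u} [Ring A] [Algebra k A] {K : Type u} [Field K] [Algebra k K]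
  {m : ℕ} (Φ : K ⊗[k] A ≃ₐ[K] Matrix (Fin (m + 1)) (Fin (m + 1)) K)
  (hA : Module.finrank k A = (m + 1) * (m + 1)) {X : Scheme.{u}} {f : X ⟶ Spec (CommRingCat.of k)}
  (s : BrSev.SBStr k A ((m + 1) * (m + 1) - (m + 1)) f)

section points

variable {R : Type u} [CommRing R] [Algebra k R] [Algebra K R] [IsScalarTower k K R]

/-- A point of the base change as a point over the ground field. -/
def toPt (g : Spec (CommRingCat.of R) ⟶ BrSev.bc f K)
    (hg : g ≫ BrSev.bcTo f K = Spec.map (CommRingCat.ofHom (algebraMap K R))) : BrSev.Pts f R :=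
  ⟨g ≫ BrSev.proj f K, by
    rw [Category.assoc, pullback.condition, ← Category.assoc, hg, ← Spec.map_comp, ← CommRingCat.ofHom_comp,
      ← IsScalarTower.algebraMap_eq]⟩

/-- The left ideal of a point of the base change. -/
def idl (g : Spec (CommRingCat.of R) ⟶ BrSev.bc f K)
    (hg : g ≫ BrSev.bcTo f K = Spec.map (CommRingCat.ofHom (algebraMap K R))) :
    BrSev.SBSet k A ((m + 1) * (m + 1) - (m + 1)) R :=
  s.bij R (toPt g hg)

theorem idl_inj {g g' : Spec (CommRingCat.of R) ⟶ BrSev.bc f K} {hg hg'}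
    (h : idl s g hg = idl s g' hg') : g = g' := by
  have := congrArg Subtype.val ((s.bij R).injective h)
  exact pullback.hom_ext this (hg.trans hg'.symm)

theorem exists_idl (N : BrSev.SBSet k A ((m + 1) * (m + 1) - (m + 1)) R) :
    ∃ g hg, idl (K := K) s g hg = N := by
  let P := (s.bij R).symm N
  refine ⟨pullback.lift P.1 (Spec.map (CommRingCat.ofHom (algebraMap K R))) ?_, pullback.lift_snd _ _ _, ?_⟩
  · rw [P.2, ← Spec.map_comp, ← CommRingCat.ofHom_comp, ← IsScalarTower.algebraMap_eq]
  · show s.bij R (toPt _ _) = N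
    rw [show toPt (f := f) (K := K) (R := R) _ _ = P from Subtype.ext (pullback.lift_fst _ _ _)]
    exact (s.bij R).apply_symm_apply N

theorem idl_map {S : Type u} [CommRing S] [Algebra k S] [Algebra K S] [IsScalarTower k K S] (φ : R →ₐ[K] S)
    (g : Spec (CommRingCat.of R) ⟶ BrSev.bc f K) (hg) :
    ∃ hg', idl s (Spec.map (CommRingCat.ofHom φ.toRingHom) ≫ g) hg' = sbMap (φ.restrictScalars k) (idl s g hg) := by
  have hg' : (Spec.map (CommRingCat.ofHom φ.toRingHom) ≫ g) ≫ BrSev.bcTo f K =
      Spec.map (CommRingCat.ofHom (algebraMap K S)) := by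
    rw [Category.assoc, hg, ← Spec.map_comp, ← CommRingCat.ofHom_comp]
    exact congrArg (fun r => Spec.map (CommRingCat.ofHom r)) φ.comp_algebraMap
  refine ⟨hg', sbSet_ext ?_⟩
  show (s.bij S (toPt _ hg')).1.toSubmodule = _
  rw [show toPt (f := f) (K := K) (R := S) _ hg' = BrSev.Pts.map f (φ.restrictScalars k) (toPt g hg) from
    Subtype.ext (Category.assoc _ _ _)]
  exact s.natural R S _ _

end points

include Φ hA in
theorem exists_chartMap (i : Fin (m + 1)) :
    ∃ F : Spec (CommRingCat.of (Ch (K := K) i)) ⟶ BrSev.bc f K,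
      ∀ (R : Type u) [CommRing R] [Algebra k R] [Algebra K R] [IsScalarTower k K R]
        (a : Ch (K := K) i →+* R) (_ : a.comp (cst i) = algebraMap K R),
        ∃ hg, idl s (Spec.map (CommRingCat.ofHom a) ≫ F) hg =
          vecPtP Φ hA m.succ_pos (fun j => a (crd i j)) i (by rw [crd_self, map_one]) := by
  letI : Algebra K (Ch (K := K) i) := (cst i).toAlgebra
  letI : Algebra k (Ch (K := K) i) := baseAlg (k := k) (K := K) (Ch (K := K) i)
  haveI := baseAlg_tower (k := k) (K := K) (Ch (K := K) i)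
  obtain ⟨F, hF, he⟩ := exists_idl (K := K) s
    (vecPtP Φ hA m.succ_pos (fun j => crd (R := K) i j) i (crd_self i))
  refine ⟨F, fun R _ _ _ _ a ha => ?_⟩
  let φ : Ch (K := K) i →ₐ[K] R := ⟨a, fun c => RingHom.congr_fun ha c⟩
  obtain ⟨hg, h⟩ := idl_map s φ F hF
  refine ⟨hg, ?_⟩
  show idl s (Spec.map (CommRingCat.ofHom φ.toRingHom) ≫ F) hg = _
  rw [h, he, sbMap_vecPtP Φ hA m.succ_pos φ (crd_self i) (by simp [crd_self])]
  rfl

/-- The chart map. -/
def chartMap (i : Fin (m + 1)) : Spec (CommRingCat.of (Ch (K := K) i)) ⟶ BrSev.bc f K :=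
  (exists_chartMap Φ hA s i).choose

theorem chartMap_spec (i : Fin (m + 1)) (R : Type u) [CommRing R] [Algebra k R] [Algebra K R]
    [IsScalarTower k K R] (a : Ch (K := K) i →+* R) (ha : a.comp (cst i) = algebraMap K R) :
    ∃ hg, idl s (Spec.map (CommRingCat.ofHom a) ≫ chartMap Φ hA s i) hg =
      vecPtP Φ hA m.succ_pos (fun j => a (crd i j)) i (by rw [crd_self, map_one]) :=
  (exists_chartMap Φ hA s i).choose_spec R a ha

theorem chartMap_over (i : Fin (m + 1)) :
    chartMap Φ hA s i ≫ BrSev.bcTo f K = Spec.map (CommRingCat.ofHom (cst (R := K) i)) := by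
  letI : Algebra K (Ch (K := K) i) := (cst i).toAlgebra
  letI : Algebra k (Ch (K := K) i) := baseAlg (k := k) (K := K) (Ch (K := K) i)
  haveI := baseAlg_tower (k := k) (K := K) (Ch (K := K) i)
  obtain ⟨hg, -⟩ := chartMap_spec Φ hA s i (Ch (K := K) i) (RingHom.id _) rfl
  simpa using hg

/-- Points of two charts have the same image exactly when they agree in projective space. -/
theorem chartMap_comp_eq_iff {i j : Fin (m + 1)} {R : Type u} [CommRing R]
    (a : Ch (K := K) i →+* R) (b : Ch (K := K) j →+* R) :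
    Spec.map (CommRingCat.ofHom a) ≫ chartMap Φ hA s i = Spec.map (CommRingCat.ofHom b) ≫ chartMap Φ hA s j ↔
      Spec.map (CommRingCat.ofHom a) ≫ ι i = Spec.map (CommRingCat.ofHom b) ≫ ι j := by
  letI : Algebra K R := (a.comp (cst i)).toAlgebra
  letI : Algebra k R := baseAlg (k := k) (K := K) R
  haveI := baseAlg_tower (k := k) (K := K) R
  obtain ⟨hg, h⟩ := chartMap_spec Φ hA s i R a rfl
  constructor
  · intro he
    have hb : b.comp (cst j) = algebraMap K R := by
      have := congrArg (· ≫ BrSev.bcTo f K) he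
      simp only [Category.assoc, chartMap_over, ← Spec.map_comp, ← CommRingCat.ofHom_comp] at this
      exact (congrArg CommRingCat.Hom.hom (Spec.map_injective this)).symm
    obtain ⟨hg', h'⟩ := chartMap_spec Φ hA s j R b hb
    have h2 : vecPtP Φ hA m.succ_pos (fun l => a (crd i l)) i (by rw [crd_self, map_one]) =
        vecPtP Φ hA m.succ_pos (fun l => b (crd j l)) j (by rw [crd_self, map_one]) := by
      rw [← h, ← h']
      congr 1
    have hr := (vecPtP_eq_iff Φ hA m.succ_pos _ _).1 h2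
    calc Spec.map (CommRingCat.ofHom a) ≫ ι i
        = Spec.map (CommRingCat.ofHom (evC (algebraMap K R) (fun l => a (crd i l)) i (by rw [crd_self, map_one]))) ≫ ι i := by
          rw [← eq_evC (algebraMap K R) a rfl]
      _ = _ := evC_ι_eq _ _ _ hr
      _ = Spec.map (CommRingCat.ofHom b) ≫ ι j := by rw [← eq_evC (algebraMap K R) b hb]
  · intro he
    obtain ⟨hr, hc⟩ := rel_of_ι_eq a b he
    obtain ⟨hg', h'⟩ := chartMap_spec Φ hA s j R b hc.symm
    refine idl_inj s (hg := hg) (hg' := hg') ?_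
    rw [h, h', vecPtP_eq_iff]
    exact hr

theorem exists_factor_local {R : CommRingCat.{u}} (hR : IsLocalRing R)
    (z : Spec R ⟶ Proj (CohB1.polyGrading m K)) :
    ∃ (i : Fin (m + 1)) (a : Ch (K := K) i →+* R), Spec.map (CommRingCat.ofHom a) ≫ ι i = z := by
  haveI := hR
  obtain ⟨i, w, hw⟩ := exists_ι_apply (z (IsLocalRing.closedPoint R))
  have hr : Set.range z ⊆ Set.range (ι i) := by
    rintro _ ⟨p, rfl⟩
    exact ((IsLocalRing.specializes_closedPoint p).map z.continuous).mem_open
      (ι i).isOpenEmbedding.isOpen_range ⟨w, hw⟩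
  obtain ⟨a, ha⟩ := Spec.map_surjective (IsOpenImmersion.lift (ι i) z hr)
  exact ⟨i, a.hom, by rw [CommRingCat.ofHom_hom, ha, IsOpenImmersion.lift_fac]⟩

theorem stalk_local (T : Scheme.{u}) (t : T) : IsLocalRing (T.presheaf.stalk t) :=
  inferInstanceAs (IsLocalRing (T.toLocallyRingedSpace.presheaf.stalk t))

theorem exists_hom : ∃ F : Proj (CohB1.polyGrading m K) ⟶ BrSev.bc f K,
    ∀ i, ι i ≫ F = chartMap Φ hA s i := by
  let 𝒰 : (Proj (CohB1.polyGrading m K)).OpenCover := Scheme.Cover.mkOfCovers (ULift.{u} (Fin (m + 1)))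
    (fun i => Spec (CommRingCat.of (Ch (K := K) i.down))) (fun i => ι i.down)
    (fun x => by obtain ⟨i, w, hw⟩ := exists_ι_apply x; exact ⟨⟨i⟩, w, hw⟩) fun i => inferInstance
  have hglue : ∀ a b : ULift.{u} (Fin (m + 1)), pullback.fst (ι (K := K) a.down) (ι b.down) ≫ chartMap Φ hA s a.down =
      pullback.snd (ι a.down) (ι b.down) ≫ chartMap Φ hA s b.down := by
    intro a b
    refine SBAut.hom_ext_fromSpecStalk _ _ fun x => ?_
    set z := (pullback (ι (K := K) a.down) (ι b.down)).fromSpecStalk x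
    obtain ⟨p, hp⟩ := Spec.map_surjective (z ≫ pullback.fst _ _)
    obtain ⟨q, hq⟩ := Spec.map_surjective (z ≫ pullback.snd _ _)
    rw [← Category.assoc, ← Category.assoc, ← hp, ← hq, ← CommRingCat.ofHom_hom p, ← CommRingCat.ofHom_hom q]
    rw [chartMap_comp_eq_iff]
    rw [CommRingCat.ofHom_hom, CommRingCat.ofHom_hom, hp, hq, Category.assoc, Category.assoc, pullback.condition]
  exact ⟨𝒰.glueMorphisms (fun i => chartMap Φ hA s i.down) hglue,
    fun i => 𝒰.ι_glueMorphisms (fun i => chartMap Φ hA s i.down) hglue ⟨i⟩⟩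

include Φ hA s in
/-- The base change of the variety is projective space, compatibly with the charts. -/
theorem exists_splitting_chart :
    ∃ e : BrSev.Splitting f K m, ∀ i, ι i ≫ e.iso.inv = chartMap Φ hA s i := by
  classical
  obtain ⟨F, hF⟩ := exists_hom Φ hA s
  have hover : F ≫ BrSev.bcTo f K = σP := by
    refine SBAut.hom_ext_fromSpecStalk _ _ fun x => ?_
    obtain ⟨i, a, ha⟩ := exists_factor_local (stalk_local _ x)
      ((Proj (CohB1.polyGrading m K)).fromSpecStalk x)
    rw [← ha, Category.assoc, Category.assoc, ← Category.assoc (ι i) F, hF, chartMap_over, ι_toSpec]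
  haveI hmono : Mono F := ⟨fun {T} z z' h => SBAut.hom_ext_fromSpecStalk _ _ fun t => by
    obtain ⟨i, a, ha⟩ := exists_factor_local (stalk_local T t) (T.fromSpecStalk t ≫ z)
    obtain ⟨j, b, hb⟩ := exists_factor_local (stalk_local T t) (T.fromSpecStalk t ≫ z')
    rw [← ha, ← hb]
    refine (chartMap_comp_eq_iff Φ hA s a b).1 ?_
    rw [← hF, ← hF, ← Category.assoc, ← Category.assoc, ha, hb, Category.assoc, Category.assoc, h]⟩
  have hloc : ∀ y : ↥(BrSev.bc f K), ∃ (V : Scheme.{u}) (j : V ⟶ BrSev.bc f K) (G : V ⟶ Proj (CohB1.polyGrading m K)),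
      IsOpenImmersion j ∧ y ∈ Set.range j ∧ G ≫ F = j := by
    intro y
    obtain ⟨_, ⟨V, hV, rfl⟩, hy, -⟩ :=
      (BrSev.bc f K).isBasis_affineOpens.exists_subset_of_mem_open (Set.mem_univ y) isOpen_univ
    let R : Type u := Γ(BrSev.bc f K, V)
    let e : Spec (CommRingCat.of R) ⟶ BrSev.bc f K := hV.fromSpec
    haveI : IsOpenImmersion e := hV.isOpenImmersion_fromSpec
    obtain ⟨c, hc⟩ := Spec.map_surjective (e ≫ BrSev.bcTo f K)
    letI : Algebra K R := c.hom.toAlgebra
    letI : Algebra k R := baseAlg (k := k) (K := K) R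
    haveI := baseAlg_tower (k := k) (K := K) R
    have hg : e ≫ BrSev.bcTo f K = Spec.map (CommRingCat.ofHom (algebraMap K R)) := hc.symm
    obtain ⟨q, hq⟩ : y ∈ Set.range e := by show y ∈ Set.range hV.fromSpec; rw [hV.range_fromSpec]; exact hy
    obtain ⟨x, hx, a, i, hai⟩ := exists_entry Φ hA m.succ_pos (idl s e hg) q
    set t := SBAut.splitHom Φ R x a i
    let S := Localization.Away t
    haveI : IsScalarTower k K S := IsScalarTower.of_algebraMap_eq fun c => by
      rw [IsScalarTower.algebraMap_apply k R S, IsScalarTower.algebraMap_apply k K R,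
        ← IsScalarTower.algebraMap_apply K R S]
    let φ : R →ₐ[K] S := IsScalarTower.toAlgHom K R S
    obtain ⟨u, hu⟩ := IsLocalization.Away.algebraMap_isUnit (S := S) t
    obtain ⟨hg', he⟩ := idl_map s φ e hg
    have hmem : SBAut.bc (φ.restrictScalars k) x ∈ (sbMap (φ.restrictScalars k) (idl s e hg)).1.toSubmodule :=
      SBAut.mem_map_of_mem _ _ hx
    set x' := (↑u⁻¹ : S) • SBAut.bc (φ.restrictScalars k) x
    have h1 : SBAut.splitHom Φ S x' a i = 1 := by
      rw [map_smul, Matrix.smul_apply, SBAut.splitHom_bc_map, Matrix.map_apply, smul_eq_mul]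
      show _ * algebraMap R S t = 1
      rw [← hu, Units.inv_mul]
    have hN := eq_vecPtP_of_entry Φ hA m.succ_pos (sbMap (φ.restrictScalars k) (idl s e hg))
      (x := x') (Submodule.smul_mem _ _ hmem) h1
    set v := SBAut.splitHom Φ S x' a
    have hv : v i = 1 := h1
    let j := Spec.map (CommRingCat.ofHom φ.toRingHom) ≫ e
    haveI : IsOpenImmersion (Spec.map (CommRingCat.ofHom φ.toRingHom)) := by
      show IsOpenImmersion (Spec.map (CommRingCat.ofHom (algebraMap R S)))
      exact IsOpenImmersion.of_isLocalization t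
    refine ⟨_, j, Spec.map (CommRingCat.ofHom (evC (algebraMap K S) v i hv)) ≫ ι i, inferInstance, ?_, ?_⟩
    · obtain ⟨q', hq'⟩ : q ∈ Set.range (PrimeSpectrum.comap (algebraMap R S)) := by
        rw [PrimeSpectrum.localization_away_comap_range S t]
        exact hai
      refine ⟨q', ?_⟩
      rw [← hq, ← hq']
      rfl
    · rw [Category.assoc, hF]
      obtain ⟨hg'', h''⟩ := chartMap_spec Φ hA s i S (evC (algebraMap K S) v i hv) (evC_cst _ _ _ _)
      refine idl_inj s (hg := hg'') (hg' := hg') ?_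
      rw [h'', he, hN, vecPtP_eq_iff]
      intro p r
      simp only [evC_crd]
      exact mul_comm _ _
  choose V j G hj hy hG using hloc
  let 𝒱 : (BrSev.bc f K).OpenCover := Scheme.Cover.mkOfCovers ↥(BrSev.bc f K) V j
    (fun y => by obtain ⟨w, hw⟩ := hy y; exact ⟨y, w, hw⟩) hj
  have hglue : ∀ a b : 𝒱.I₀, pullback.fst (𝒱.f a) (𝒱.f b) ≫ G a = pullback.snd (𝒱.f a) (𝒱.f b) ≫ G b := fun a b => by
    rw [← cancel_mono F]
    refine (Category.assoc _ _ _).trans ((congrArg _ (hG a)).trans (pullback.condition.trans ?_))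
    exact (congrArg _ (hG b)).symm.trans (Category.assoc _ _ _).symm
  let H := 𝒱.glueMorphisms G hglue
  have hHF : H ≫ F = 𝟙 _ := 𝒱.hom_ext _ _ fun a => by
    rw [← Category.assoc, 𝒱.ι_glueMorphisms G hglue a]
    exact (hG a).trans (Category.comp_id _).symm
  have hFH : F ≫ H = 𝟙 _ := by
    rw [← cancel_mono F, Category.assoc, hHF, Category.comp_id, Category.id_comp]
  refine ⟨⟨⟨H, F, hHF, hFH⟩, ?_⟩, hF⟩
  show H ≫ σP = _
  rw [← hover, ← Category.assoc, hHF, Category.id_comp]

include Φ hA s in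
/-- The base change of the variety is projective space. -/
theorem exists_splitting : Nonempty (BrSev.Splitting f K m) :=
  let ⟨e, _⟩ := exists_splitting_chart Φ hA s
  ⟨e⟩

end Groth.Agent.SBSplit
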