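import Groth.Agent.SBAut.Split
import Mathlib.RingTheory.Flat.LocallyFree
import Mathlib.RingTheory.Spectrum.Prime.FreeLocus

/-!
# Left ideals of vectors with a pivot equal to one, over arbitrary rings
-/

universe u

open Matrix
open scoped TensorProduct

noncomputable section

set_option linter.style.haveILetI false

namespace Groth.Agent.SBSplit

open SBAut

variable {R : Type u} [CommRing R] {n : ℕ}

/-- Columns away from the pivot, after subtracting the multiple of the vector. -/
def proj (v : Fin n → R) (i : Fin n) :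
    Matrix (Fin n) (Fin n) R →ₗ[R] (Fin n → {j : Fin n // j ≠ i} → R) where
  toFun M := fun a j => M a j.1 - M a i * v j.1
  map_add' M N := by funext a j; simp [add_mul]; ring
  map_smul' c M := by funext a j; simp [mul_sub]; ring

theorem proj_surjective {v : Fin n → R} {i : Fin n} : Function.Surjective (proj v i) := by
  classical
  intro z
  refine ⟨Matrix.of fun a j => if h : j = i then 0 else z a ⟨j, h⟩, ?_⟩
  funext a j
  simp [proj, j.2]

theorem ker_proj {v : Fin n → R} {i : Fin n} (hv : v i = 1) : LinearMap.ker (proj v i) = rowIdeal v := by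
  ext M
  rw [LinearMap.mem_ker, mem_rowIdeal]
  constructor
  · intro h a
    refine rel_of_smul_eq (c := M a i) (funext fun b => ?_)
    by_cases hb : b = i
    · subst hb; simp [hv]
    · have := congrFun (congrFun h a) ⟨b, hb⟩
      simpa [proj, sub_eq_zero] using this
  · intro h
    funext a j
    have := h a j.1 i
    rw [hv, mul_one] at this
    simp [proj, this]

theorem rowIdeal_quotient_pivot {v : Fin n → R} {i : Fin n} (hv : v i = 1) :
    Module.Finite R (Matrix (Fin n) (Fin n) R ⧸ rowIdeal v) ∧
      Module.Free R (Matrix (Fin n) (Fin n) R ⧸ rowIdeal v) ∧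
        (Nontrivial R → Module.finrank R (Matrix (Fin n) (Fin n) R ⧸ rowIdeal v) = n * n - n) := by
  classical
  let e : (Matrix (Fin n) (Fin n) R ⧸ rowIdeal v) ≃ₗ[R] (Fin n → {j : Fin n // j ≠ i} → R) :=
    (Submodule.quotEquivOfEq _ _ (ker_proj hv).symm).trans
      ((proj v i).quotKerEquivOfSurjective proj_surjective)
  refine ⟨Module.Finite.equiv e.symm, Module.Free.of_equiv e.symm, fun _ => ?_⟩
  rw [e.finrank_eq, Module.finrank_pi_fintype, Finset.sum_const, Finset.card_univ, Fintype.card_fin,
    Module.finrank_fintype_fun_eq_card, Fintype.card_subtype_compl, Fintype.card_subtype_eq, Fintype.card_fin,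
    smul_eq_mul, Nat.mul_sub, mul_one]

theorem isUni_pivot {v : Fin n → R} {i : Fin n} (hv : v i = 1) : IsUni v :=
  isUni_of_isUnit (i := i) (by rw [hv]; exact isUnit_one)

/-- Proportional vectors with pivots: the change of pivot. -/
theorem pivot_change {v v' : Fin n → R} {i j : Fin n} (hv : v i = 1) (hv' : v' j = 1) (h : Rel v v') :
    IsUnit (v j) ∧ ∀ k, v' k * v j = v k := by
  have h1 : ∀ k, v' k * v j = v k := fun k => by
    have := h k j
    rw [hv', mul_one] at this
    rw [this, mul_comm]
  refine ⟨IsUnit.of_mul_eq_one_right (v' i) ?_, h1⟩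
  rw [h1, hv]

variable {k : Type u} [Field k] {A : Type u} [Ring A] [Algebra k A] {K : Type u} [Field K] [Algebra k K]
  (Φ : K ⊗[k] A ≃ₐ[K] Matrix (Fin n) (Fin n) K) (hA : Module.finrank k A = n * n) (hn : 0 < n)
  [Algebra k R] [Algebra K R] [IsScalarTower k K R]

/-- The left ideal of a vector with pivot, over any ring. -/
def vecPtP (v : Fin n → R) (i : Fin n) (hv : v i = 1) : BrSev.SBSet k A (n * n - n) R :=
  have hmap : ((rowIdeal v).comap ((split Φ R hA hn).toLinearEquiv : R ⊗[k] A →ₗ[R] Matrix (Fin n) (Fin n) R)).map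
      ((split Φ R hA hn).toLinearEquiv : R ⊗[k] A →ₗ[R] Matrix (Fin n) (Fin n) R) = rowIdeal v :=
    Submodule.map_comap_eq_of_surjective (split Φ R hA hn).toLinearEquiv.surjective _
  let e := Submodule.Quotient.equiv _ _ (split Φ R hA hn).toLinearEquiv hmap
  ⟨{ toSubmodule := (rowIdeal v).comap ((split Φ R hA hn).toLinearEquiv : R ⊗[k] A →ₗ[R] Matrix (Fin n) (Fin n) R)
     finite_quotient := by
      haveI := (rowIdeal_quotient_pivot hv).1
      exact Module.Finite.equiv e.symm
     projective_quotient := by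
      haveI := (rowIdeal_quotient_pivot hv).2.1
      exact Module.Projective.of_equiv e.symm
     rankAtStalk_eq := fun q => by
      haveI := (rowIdeal_quotient_pivot hv).1
      haveI := (rowIdeal_quotient_pivot hv).2.1
      haveI : Nontrivial R := q.nontrivial
      rw [Module.rankAtStalk_eq_of_equiv e, Module.rankAtStalk_eq_finrank_of_free,
        (rowIdeal_quotient_pivot hv).2.2 inferInstance]
      simp }, by
    intro a x hx
    show split Φ R hA hn (a * x) ∈ rowIdeal v
    rw [map_mul]
    exact mul_mem_rowIdeal _ hx⟩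

theorem mem_vecPtP {v : Fin n → R} {i : Fin n} (hv : v i = 1) (x : R ⊗[k] A) :
    x ∈ (vecPtP Φ hA hn v i hv).1.toSubmodule ↔ splitHom Φ R x ∈ rowIdeal v := Iff.rfl

theorem vecPtP_eq_iff {v v' : Fin n → R} {i j : Fin n} (hv : v i = 1) (hv' : v' j = 1) :
    vecPtP Φ hA hn v i hv = vecPtP Φ hA hn v' j hv' ↔ Rel v v' := by
  rw [← rowIdeal_eq_iff (isUni_pivot hv) (isUni_pivot hv')]
  refine ⟨fun h => ?_, fun h => sbSet_ext ?_⟩
  · ext M
    obtain ⟨x, rfl⟩ := (splitHom_bijective Φ R hA hn).2 M
    rw [← mem_vecPtP Φ hA hn hv, ← mem_vecPtP Φ hA hn hv', h]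
  · ext x
    rw [mem_vecPtP, mem_vecPtP, h]

theorem sbMap_vecPtP {S : Type u} [CommRing S] [Algebra k S] [Algebra K S] [IsScalarTower k K S]
    (φ : R →ₐ[K] S) {v : Fin n → R} {i : Fin n} (hv : v i = 1) (hv' : (φ ∘ v) i = 1) :
    sbMap (φ.restrictScalars k) (vecPtP Φ hA hn v i hv) = vecPtP Φ hA hn (φ ∘ v) i hv' := by
  classical
  refine sbSet_ext (le_antisymm ?_ ?_)
  · show (Module.Grassmannian.map _ _).toSubmodule ≤ _
    rw [map_toSubmodule_span, Submodule.span_le]
    rintro _ ⟨x, hx, rfl⟩
    rw [SetLike.mem_coe, mem_vecPtP, splitHom_bc_map]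
    intro a
    exact ((mem_vecPtP Φ hA hn hv x).1 hx a).map φ
  · intro y hy
    show y ∈ (Module.Grassmannian.map _ _).toSubmodule
    rw [map_toSubmodule_span]
    let g : Fin n → R ⊗[k] A := fun a =>
      (split Φ R hA hn).symm (Matrix.of fun b => if b = a then v else 0)
    have hg : ∀ a, splitHom Φ R (g a) = Matrix.of fun b => if b = a then v else 0 := fun a =>
      (split Φ R hA hn).apply_symm_apply _
    have hgm : ∀ a, g a ∈ (vecPtP Φ hA hn v i hv).1.toSubmodule := fun a => by
      rw [mem_vecPtP, hg]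
      intro b
      by_cases hb : b = a
      · show Rel (if b = a then v else 0) v
        rw [if_pos hb]; exact Rel.refl v
      · show Rel (if b = a then v else 0) v
        rw [if_neg hb]; intro p q; simp
    have hy' : y = ∑ a, splitHom Φ S y a i • bc (φ.restrictScalars k) (g a) := by
      apply (splitHom_bijective Φ S hA hn).1
      rw [map_sum]
      simp only [map_smul, splitHom_bc_map, hg]
      refine Matrix.ext fun b c => ?_
      rw [Matrix.sum_apply, Finset.sum_eq_single b (fun a _ ha => by simp [Ne.symm ha]) (by simp)]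
      have := (mem_vecPtP Φ hA hn hv' y).1 hy b c i
      rw [hv', mul_one] at this
      simp [this]
    rw [hy']
    exact Submodule.sum_mem _ fun a _ => Submodule.smul_mem _ _ (Submodule.subset_span ⟨_, hgm a, rfl⟩)

include hA hn in
/-- An entry of an element of a point is a unit near every prime. -/
theorem exists_entry (N : BrSev.SBSet k A (n * n - n) R) (q : PrimeSpectrum R) :
    ∃ x ∈ N.1.toSubmodule, ∃ a b : Fin n, splitHom Φ R x a b ∉ q.asIdeal := by
  by_contra! hc
  let L := Localization.AtPrime q.asIdeal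
  haveI : IsScalarTower k K L := IsScalarTower.of_algebraMap_eq fun c => by
    rw [IsScalarTower.algebraMap_apply k R L, IsScalarTower.algebraMap_apply k K R,
      ← IsScalarTower.algebraMap_apply K R L]
  let φ : R →ₐ[K] L := IsScalarTower.toAlgHom K R L
  obtain ⟨v, hv, he⟩ := exists_vecPt Φ hA hn (sbMap (φ.restrictScalars k) N)
  obtain ⟨b, hb⟩ := hv.exists_isUnit
  obtain ⟨y, hy⟩ := (splitHom_bijective Φ L hA hn).2 (Matrix.of fun _ => v)
  have hmem : y ∈ (sbMap (φ.restrictScalars k) N).1.toSubmodule := by
    rw [← he, mem_vecPt, hy]; exact fun _ => Rel.refl v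
  change y ∈ (Module.Grassmannian.map _ _).toSubmodule at hmem
  rw [map_toSubmodule_span] at hmem
  have key : ∀ z ∈ Submodule.span L (bc (φ.restrictScalars k) '' (N.1.toSubmodule : Set (R ⊗[k] A))),
      ∀ a b, splitHom Φ L z a b ∈ IsLocalRing.maximalIdeal L := by
    intro z hmem
    induction hmem using Submodule.span_induction with
    | mem z hz =>
      obtain ⟨x, hx, rfl⟩ := hz
      intro a b
      rw [splitHom_bc_map, Matrix.map_apply]
      exact (IsLocalization.AtPrime.to_map_mem_maximal_iff L q.asIdeal _).2 (hc x hx a b)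
    | zero => simp
    | add z z' _ _ h h' => intro a b; rw [map_add, Matrix.add_apply]; exact add_mem (h a b) (h' a b)
    | smul c z _ h => intro a b; rw [map_smul, Matrix.smul_apply]; exact Ideal.mul_mem_left _ c (h a b)
  have := key y hmem ⟨0, hn⟩ b
  rw [hy, Matrix.of_apply] at this
  exact (IsLocalRing.mem_maximalIdeal _).1 this hb

/-- A point containing an element with an entry one is the point of that row. -/
theorem eq_vecPtP_of_entry (N : BrSev.SBSet k A (n * n - n) R) {x : R ⊗[k] A} (hx : x ∈ N.1.toSubmodule)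
    {a i : Fin n} (h1 : splitHom Φ R x a i = 1) :
    N = vecPtP Φ hA hn (splitHom Φ R x a) i h1 := by
  classical
  set v := splitHom Φ R x a
  set N' := vecPtP Φ hA hn v i h1
  have hle : N'.1.toSubmodule ≤ N.1.toSubmodule := by
    intro y hy
    rw [mem_vecPtP] at hy
    let c : R ⊗[k] A := (split Φ R hA hn).symm (Matrix.of fun p q => if q = a then splitHom Φ R y p i else 0)
    have hc : splitHom Φ R c = Matrix.of fun p q => if q = a then splitHom Φ R y p i else 0 :=
      (split Φ R hA hn).apply_symm_apply _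
    have : y = c * x := by
      apply (splitHom_bijective Φ R hA hn).1
      rw [map_mul, hc]
      refine Matrix.ext fun p q => ?_
      rw [Matrix.mul_apply, Finset.sum_eq_single a (fun b _ hb => by simp [hb]) (by simp)]
      have h := hy p q i
      rw [h1, mul_one] at h
      simp [h, v]
    rw [this]
    exact N.2 c x hx
  let π : ((R ⊗[k] A) ⧸ N'.1.toSubmodule) →ₗ[R] ((R ⊗[k] A) ⧸ N.1.toSubmodule) :=
    Submodule.mapQ _ _ LinearMap.id hle
  have hπ : Function.Surjective π := fun z => by
    obtain ⟨w, rfl⟩ := Submodule.Quotient.mk_surjective _ z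
    exact ⟨Submodule.Quotient.mk w, rfl⟩
  have hb := Module.bijective_of_surjective_of_rankAtStalk_eq hπ fun m _ => by
    rw [N'.1.rankAtStalk_eq, N.1.rankAtStalk_eq]
  refine (sbSet_ext (le_antisymm hle fun y hy => ?_)).symm
  rw [← Submodule.Quotient.mk_eq_zero]
  refine hb.1 ?_
  rw [map_zero]
  exact (Submodule.Quotient.mk_eq_zero _).2 hy

end Groth.Agent.SBSplit
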